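import Groth.Prelude.Def_Flat
import Mathlib

/-! Universal homeomorphisms detected on geometric points. -/

set_option autoImplicit false

universe u

open AlgebraicGeometry CategoryTheory

namespace Groth.Agent.UnivHomeoPts

theorem isUnivHomeo_of_points {W Z : Scheme.{u}} (m : W ⟶ Z) [UniversallyClosed m] [Surjective m]
    (hinj : ∀ (Ω : Type u) [Field Ω] [IsAlgClosed Ω] (a b : Spec (CommRingCat.of Ω) ⟶ W),
      a ≫ m = b ≫ m → a = b) : FlatMor.IsUnivHomeo m := by
  have hui : UniversallyInjective m := by
    refine ((tfae_universallyInjective m).out 0 1 rfl rfl).2 fun K _ a b hab => ?_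
    let ι : CommRingCat.of K ⟶ CommRingCat.of (AlgebraicClosure K) :=
      CommRingCat.ofHom (algebraMap K (AlgebraicClosure K))
    have h := hinj (AlgebraicClosure K) (Spec.map ι ≫ a) (Spec.map ι ≫ b) (by
      rw [Category.assoc, Category.assoc]; exact congrArg _ hab)
    obtain ⟨⟨x, φ⟩, rfl⟩ := (Scheme.SpecToEquivOfField K W).symm.surjective a
    obtain ⟨⟨y, ψ⟩, rfl⟩ := (Scheme.SpecToEquivOfField K W).symm.surjective b
    simp only [Scheme.SpecToEquivOfField_symm_apply, ← Spec.map_comp_assoc] at h
    have h' := (Scheme.SpecToEquivOfField (AlgebraicClosure K) W).symm.injective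
      (a₁ := ⟨x, φ ≫ ι⟩) (a₂ := ⟨y, ψ ≫ ι⟩) h
    obtain ⟨e, he⟩ := Scheme.SpecToEquivOfField_eq_iff.1 h'
    congr 1
    refine Scheme.SpecToEquivOfField_eq_iff.2 ⟨e, ?_⟩
    ext c
    have hc := congr($he c)
    exact (algebraMap K (AlgebraicClosure K)).injective hc
  intro X' Y' i₁ i₂ f' h
  have : UniversallyClosed f' := MorphismProperty.of_isPullback h.flip ‹_›
  have : Surjective f' := MorphismProperty.of_isPullback h.flip ‹_›
  have : UniversallyInjective f' := MorphismProperty.of_isPullback h.flip hui
  exact isHomeomorph_iff_continuous_isClosedMap_bijective.2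
    ⟨f'.continuous, f'.isClosedMap, f'.injective, f'.surjective⟩

end Groth.Agent.UnivHomeoPts
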